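import Mathlib

/-!
# Local rings of rings with finitely many primes
-/

set_option autoImplicit false
universe u

namespace GrothLib.FinSpec

/-- The localization at a prime of a ring with finite spectrum is the localization at one element. -/
theorem exists_isLocalization_away {B : Type u} [CommRing B] [Finite (PrimeSpectrum B)] (P : Ideal B) [P.IsPrime] :
    ∃ f ∉ P, ∀ (C : Type u) [CommRing C] [Algebra B C], IsLocalization.AtPrime C P → IsLocalization.Away f C := by
  classical
  haveI := Fintype.ofFinite (PrimeSpectrum B)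
  have hg : ∀ Q : PrimeSpectrum B, ∃ g : B, g ∉ P ∧ (¬ Q.asIdeal ≤ P → g ∈ Q.asIdeal) := fun Q => by
    by_cases h : Q.asIdeal ≤ P
    · exact ⟨1, fun h1 => (Ideal.IsPrime.ne_top inferInstance) ((Ideal.eq_top_iff_one P).2 h1), fun h' => absurd h h'⟩
    · obtain ⟨g, hg, hg'⟩ := SetLike.not_le_iff_exists.1 h
      exact ⟨g, hg', fun _ => hg⟩
  choose g hg hg' using hg
  have hf : ∏ Q, g Q ∉ P := fun h => by
    obtain ⟨Q, -, hQ⟩ := (Ideal.IsPrime.prod_mem_iff (p := P)).1 h
    exact hg Q hQ
  refine ⟨∏ Q, g Q, hf, fun C _ _ hC => ?_⟩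
  refine (IsLocalization.iff_of_le_of_exists_dvd (S := C) (M := Submonoid.powers (∏ Q, g Q)) P.primeCompl
    (Submonoid.powers_le.2 hf) fun s hs => ?_).2 hC
  have : ∏ Q, g Q ∈ (Ideal.span {s}).radical := by
    rw [Ideal.radical_eq_sInf, Submodule.mem_sInf]
    rintro Q ⟨hsQ, hQ⟩
    exact Ideal.mem_of_dvd _ (Finset.dvd_prod_of_mem g (Finset.mem_univ (⟨Q, hQ⟩ : PrimeSpectrum B)))
      (hg' ⟨Q, hQ⟩ fun hle => hs (hle (hsQ (Ideal.mem_span_singleton_self s))))
  obtain ⟨n, hn⟩ := this
  exact ⟨_, ⟨n, rfl⟩, Ideal.mem_span_singleton.1 hn⟩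

/-- A quasi-finite algebra over a ring with finite spectrum has finite spectrum. -/
theorem finite_primeSpectrum_of_quasiFinite (A B : Type u) [CommRing A] [CommRing B] [Algebra A B]
    [Algebra.QuasiFinite A B] [Finite (PrimeSpectrum A)] : Finite (PrimeSpectrum B) := by
  have h : (Set.univ : Set (PrimeSpectrum A)).Finite := Set.finite_univ
  have h2 := h.preimage' (f := PrimeSpectrum.comap (algebraMap A B)) fun p _ =>
    Algebra.QuasiFinite.finite_comap_preimage_singleton p
  rw [Set.preimage_univ] at h2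
  exact Set.finite_univ_iff.1 h2

end GrothLib.FinSpec
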